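import Groth.Agent.Models.K485.Dict
import Groth.Agent.Models.K381.CoreNP
import Groth.Agent.Models.K326.TwoPrimes

/-!
# Semistable reduction of a curve from semistable reduction of its Jacobian, from the two torsion inputs
-/

set_option autoImplicit false
universe u
open CategoryTheory CategoryTheory.Limits MonoidalCategory CartesianMonoidalCategory MonObj GrpObj AlgebraicGeometry

namespace Groth.Agent.Models.K485.BackMain

open Backward Dict

theorem coreHyp : CoreHyp.{u} := by
  intro R _ _ _ hk C f hC hH0 g hg hgen l hl hlk hlg hcard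
  exact Groth.Agent.Models.K381.CoreNP.main R hk C f hC hH0 g hg hgen l hl hlk hlg hcard

theorem twoHyp : TwoHyp.{u} := by
  intro R _ _ _ _ hk ϖ hϖ l1 l2 h12 h1 h2 C f hC hH0 hg H1 H2
  exact _root_.K326.TwoPrimes.main R hϖ h12 h1 h2 f hC hH0 hg H1 H2

/-- **Semistable reduction of a curve from semistable reduction of its Jacobian.** -/
theorem main (h1 : InertHyp.{u}) (h2 : CountHyp.{u})
    (R : Type u) [CommRing R] [IsDomain R] [IsDiscreteValuationRing R]
    (hk : IsAlgClosed (IsLocalRing.ResidueField R))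
    (C : Scheme.{u}) (fC : C ⟶ (Spec (CommRingCat.of (FractionRing R)))) [IsProper fC] [Smooth fC]
    (hC0 : Models.hRank (FractionRing R) C fC (Coh.structureModule C) 0 = 1) (hC1 : topologicalKrullDim C = 1)
    (hg : 2 ≤ Models.curveGenus (FractionRing R) C fC)
    (J : Over (Spec (CommRingCat.of (FractionRing R)))) [GrpObj J] [IsCommMonObj J] [IsProper J.hom] [Smooth J.hom]
    (φ : ∀ T : Over (Spec (CommRingCat.of (FractionRing R))), PicF.Cl (PicF.XT fC T) → (T ⟶ J))
    (hJ : AbDual.IsRelPicZeroK Scheme.fppfPrecoverage fC J φ)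
    (hmul : ∀ (T : Over (Spec (CommRingCat.of (FractionRing R)))) (L M : (PicF.XT fC T).Modules),
      AbDual.IsPicZeroCl fC T (PicF.cl L) → AbDual.IsPicZeroCl fC T (PicF.cl M) →
      φ T (PicF.cl (CohB1.tensorMod L M)) = φ T (PicF.cl L) * φ T (PicF.cl M))
    (h : SGA7.HasSemistableReduction R (FractionRing R) J) : Models.HasSemistableReduction R C fC :=
  Backward.main coreHyp (torsHyp h1 h2) twoHyp R hk C fC hC0 hC1 hg J φ hJ hmul h

end Groth.Agent.Models.K485.BackMain
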