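import Groth.Agent.Models.K954.Assem
import Groth.Agent.Models.K954.GenFib
import Groth.Agent.Models.H56.Glue
import Groth.Agent.Models.H58.Final
import Groth.Agent.Neron.K491.FrobIsog
import Groth.Agent.AbDual.K732.BC
import Groth.Agent.SGA1.K150.CplAlgClosed
import Groth.Prelude.Def_SGA7IX

/-!
# Semistable reduction of a curve from semistable reduction of its Jacobian: the assembly

Four inputs, each for a discrete valuation ring with algebraically closed residue field:

* `CoreHyp`: a curve of genus `g ≥ 2` with full `l`-torsion in its Picard group, `l > 768 g` a prime different from the residue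
  characteristic, has semistable reduction (no rational point is needed);
* `TorsHyp`: if the Jacobian has semistable reduction over a complete `R`, then the curve has full `l`-torsion in its Picard
  group over `K(ϖ^(1/l))`;
* `TwoHyp`: a curve which has semistable reduction over `R[ϖ^(1/l₁)]` and `R[ϖ^(1/l₂)]`, `l₁` and `l₂` coprime and invertible in
  the henselian ring `R`, has semistable reduction over `R`;

and the descent from the completion (`K954.SsComp`).
-/

set_option autoImplicit false
universe u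
open CategoryTheory CategoryTheory.Limits MonoidalCategory CartesianMonoidalCategory MonObj GrpObj AlgebraicGeometry

namespace Groth.Agent.Models.K485.Backward

open Groth.Agent.Grpsch.PicGrp
open _root_.K954

/-- The core theorem without a rational point. -/
def CoreHyp : Prop := ∀ (R : Type u) [CommRing R] [IsDomain R] [IsDiscreteValuationRing R]
  (_ : IsAlgClosed (IsLocalRing.ResidueField R))
  (C : Scheme.{u}) (f : C ⟶ Spec (CommRingCat.of (FractionRing R)))
  (_ : Curve.IsSmoothProperCurve (FractionRing R) C f) (_ : IsIso f.appTop)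
  (g : ℕ) (_ : 2 ≤ g) (_ : Models.curveGenus (FractionRing R) C f = g) (l : ℕ) (_ : l.Prime)
  (_ : (l : IsLocalRing.ResidueField R) ≠ 0) (_ : 768 * g < l)
  (_ : Nat.card {c : Pic C // c ^ l = 1} = l ^ (2 * g)),
  Models.HasSemistableReduction R C f

/-- The curve `C` has semistable reduction over the extensions generated by an `l`-th root of `ϖ`. -/
def Good (R : Type u) [CommRing R] [IsDomain R] [IsDiscreteValuationRing R] (ϖ : R) (l : ℕ) {C : Scheme.{u}}
    (f : C ⟶ Spec (CommRingCat.of (FractionRing R))) : Prop :=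
  ∀ (R1 : Type u) [CommRing R1] [IsDomain R1] [IsDiscreteValuationRing R1] [Algebra R R1] [Module.Finite R R1]
    (hinj : Function.Injective (algebraMap R R1)) (w : R1) (_ : Irreducible w) (_ : w ^ l = algebraMap R R1 ϖ),
    Models.HasSemistableReduction R1
      (pullback f (Spec.map (CommRingCat.ofHom (RingAct.fracMap R R1 hinj)))) (pullback.snd _ _)

/-- Two coprime tame extensions suffice. -/
def TwoHyp : Prop := ∀ (R : Type u) [CommRing R] [IsDomain R] [IsDiscreteValuationRing R] [HenselianLocalRing R]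
  (_ : IsAlgClosed (IsLocalRing.ResidueField R)) (ϖ : R) (_ : Irreducible ϖ) (l1 l2 : ℕ) (_ : l1.Coprime l2)
  (_ : IsUnit (l1 : R)) (_ : IsUnit (l2 : R)) (C : Scheme.{u}) (f : C ⟶ Spec (CommRingCat.of (FractionRing R)))
  (_ : Curve.IsSmoothProperCurve (FractionRing R) C f) (_ : IsIso f.appTop)
  (_ : 2 ≤ Models.curveGenus (FractionRing R) C f) (_ : Good R ϖ l1 f) (_ : Good R ϖ l2 f),
  Models.HasSemistableReduction R C f

/-- Full `l`-torsion of the Picard group over the tame extension of degree `l`. -/
def TorsHyp : Prop := ∀ (R : Type u) [CommRing R] [IsDomain R] [IsDiscreteValuationRing R]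
  [IsAdicComplete (IsLocalRing.maximalIdeal R) R] (_ : IsAlgClosed (IsLocalRing.ResidueField R))
  (C : Scheme.{u}) (f : C ⟶ Spec (CommRingCat.of (FractionRing R)))
  (_ : Curve.IsSmoothProperCurve (FractionRing R) C f) (_ : IsIso f.appTop)
  (_ : 2 ≤ Models.curveGenus (FractionRing R) C f)
  (J : Over (Spec (CommRingCat.of (FractionRing R)))) [GrpObj J] [IsCommMonObj J] [IsProper J.hom] [Smooth J.hom]
  (φ : ∀ T : Over (Spec (CommRingCat.of (FractionRing R))), PicF.Cl (PicF.XT f T) → (T ⟶ J))
  (_ : AbDual.IsDualAV Scheme.fppfPrecoverage (Over.mk f) J φ)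
  (_ : SGA7.HasSemistableReduction R (FractionRing R) J)
  (l : ℕ) (_ : l.Prime) (_ : (l : IsLocalRing.ResidueField R) ≠ 0)
  (_ : 768 * Models.curveGenus (FractionRing R) C f < l) (ϖ : R) (_ : Irreducible ϖ)
  (R1 : Type u) [CommRing R1] [IsDomain R1] [IsDiscreteValuationRing R1] [Algebra R R1] [Module.Finite R R1]
  (hinj : Function.Injective (algebraMap R R1)) (w : R1) (_ : Irreducible w) (_ : w ^ l = algebraMap R R1 ϖ),
  Nat.card {c : Pic (pullback f (Spec.map (CommRingCat.ofHom (RingAct.fracMap R R1 hinj)))) // c ^ l = 1} =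
    l ^ (2 * Models.curveGenus (FractionRing R) C f)

section field

variable {R : Type u} [CommRing R] [IsDomain R] [IsDiscreteValuationRing R]

/-- The residue field of a finite extension of a discrete valuation ring with algebraically closed residue field. -/
theorem isAlgClosed_residueField (hk : IsAlgClosed (IsLocalRing.ResidueField R))
    (R1 : Type u) [CommRing R1] [IsDomain R1] [IsDiscreteValuationRing R1] [Algebra R R1] [Module.Finite R R1]
    [IsLocalHom (algebraMap R R1)] : IsAlgClosed (IsLocalRing.ResidueField R1) := by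
  have hfin : Module.Finite (IsLocalRing.ResidueField R) (IsLocalRing.ResidueField R1) := inferInstance
  have halg : Algebra.IsAlgebraic (IsLocalRing.ResidueField R) (IsLocalRing.ResidueField R1) :=
    Algebra.IsAlgebraic.of_finite _ _
  exact (IsAlgClosed.algebraMap_bijective_of_isIntegral (k := IsLocalRing.ResidueField R)
    (K := IsLocalRing.ResidueField R1)).elim fun h1 h2 =>
      IsAlgClosed.of_ringEquiv _ _ (RingEquiv.ofBijective _ ⟨h1, h2⟩)

theorem isUnit_natCast {l : ℕ} (hl : (l : IsLocalRing.ResidueField R) ≠ 0) : IsUnit (l : R) := by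
  by_contra h
  apply hl
  rw [← map_natCast (IsLocalRing.residue R), IsLocalRing.residue_eq_zero_iff]
  exact h

/-- Two different large primes. -/
theorem exists_primes (N : ℕ) (k : Type u) [Field k] : ∃ l1 l2 : ℕ, l1.Prime ∧ l2.Prime ∧ l1 ≠ l2 ∧ N < l1 ∧ N < l2 ∧
    (l1 : k) ≠ 0 ∧ (l2 : k) ≠ 0 := by
  obtain ⟨l1, h1, h2, h3, -⟩ := H58.Final.exists_prime N k
  obtain ⟨l2, h4, h5, h6, -⟩ := H58.Final.exists_prime (max N l1) k
  exact ⟨l1, l2, h1, h4, by have := le_max_right N l1; omega, h2, lt_of_le_of_lt (le_max_left _ _) h5, h3, h6⟩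

end field

section complete

variable (R : Type u) [CommRing R] [IsDomain R] [IsDiscreteValuationRing R]
  [IsAdicComplete (IsLocalRing.maximalIdeal R) R]

/-- Semistable reduction over the tame extension of degree `l`. -/
theorem good (hCore : CoreHyp.{u}) (hTors : TorsHyp.{u}) (hk : IsAlgClosed (IsLocalRing.ResidueField R))
    (C : Scheme.{u}) (f : C ⟶ Spec (CommRingCat.of (FractionRing R)))
    (hC : Curve.IsSmoothProperCurve (FractionRing R) C f) (hH0 : IsIso f.appTop)
    (hg : 2 ≤ Models.curveGenus (FractionRing R) C f)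
    (J : Over (Spec (CommRingCat.of (FractionRing R)))) [GrpObj J] [IsCommMonObj J] [IsProper J.hom] [Smooth J.hom]
    (φ : ∀ T : Over (Spec (CommRingCat.of (FractionRing R))), PicF.Cl (PicF.XT f T) → (T ⟶ J))
    (hD : AbDual.IsDualAV Scheme.fppfPrecoverage (Over.mk f) J φ)
    (hJ : SGA7.HasSemistableReduction R (FractionRing R) J)
    (l : ℕ) (hl : l.Prime) (hlk : (l : IsLocalRing.ResidueField R) ≠ 0)
    (hlg : 768 * Models.curveGenus (FractionRing R) C f < l) (ϖ : R) (hϖ : Irreducible ϖ) : Good R ϖ l f := by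
  intro R1 _ _ _ _ _ hinj w hw hwl
  have hcard := hTors R hk C f hC hH0 hg J φ hD hJ l hl hlk hlg ϖ hϖ R1 hinj w hw hwl
  have hloc : IsLocalHom (algebraMap R R1) := (algebraMap_isIntegral_iff.mpr inferInstance).isLocalHom hinj
  have hk1 := isAlgClosed_residueField hk R1
  have hprop : IsProper f := hC.1
  obtain ⟨hC', hH0'⟩ := H57.GeoInt.isSmoothProperCurve_pullback f hC hH0 (RingAct.fracMap R R1 hinj)
  have hgen : Models.curveGenus (FractionRing R1)
      (pullback f (Spec.map (CommRingCat.ofHom (RingAct.fracMap R R1 hinj))))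
      (pullback.snd f (Spec.map (CommRingCat.ofHom (RingAct.fracMap R R1 hinj)))) =
      Models.curveGenus (FractionRing R) C f :=
    ActExt.curveGenus_of_isPullback (RingAct.fracMap R R1 hinj) (IsPullback.of_hasPullback _ _)
  refine hCore R1 hk1 _ _ hC' hH0' _ hg hgen l hl ?_ hlg hcard
  intro h0
  apply hlk
  apply (algebraMap (IsLocalRing.ResidueField R) (IsLocalRing.ResidueField R1)).injective
  rw [map_natCast, map_zero, h0]

/-- The case of a complete base. -/
theorem complete (hCore : CoreHyp.{u}) (hTors : TorsHyp.{u}) (hTwo : TwoHyp.{u})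
    (hk : IsAlgClosed (IsLocalRing.ResidueField R))
    (C : Scheme.{u}) (f : C ⟶ Spec (CommRingCat.of (FractionRing R)))
    (hC : Curve.IsSmoothProperCurve (FractionRing R) C f) (hH0 : IsIso f.appTop)
    (hg : 2 ≤ Models.curveGenus (FractionRing R) C f)
    (J : Over (Spec (CommRingCat.of (FractionRing R)))) [GrpObj J] [IsCommMonObj J] [IsProper J.hom] [Smooth J.hom]
    (φ : ∀ T : Over (Spec (CommRingCat.of (FractionRing R))), PicF.Cl (PicF.XT f T) → (T ⟶ J))
    (hD : AbDual.IsDualAV Scheme.fppfPrecoverage (Over.mk f) J φ)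
    (hJ : SGA7.HasSemistableReduction R (FractionRing R) J) : Models.HasSemistableReduction R C f := by
  have hhens : HenselianLocalRing R := Groth.Agent.Models.K954.PicClosed.henselianLocalRing R
  obtain ⟨ϖ, hϖ⟩ := IsDiscreteValuationRing.exists_irreducible R
  obtain ⟨l1, l2, h1, h2, h12, h3, h4, h5, h6⟩ := exists_primes (768 * Models.curveGenus (FractionRing R) C f)
    (IsLocalRing.ResidueField R)
  exact hTwo R hk ϖ hϖ l1 l2 ((Nat.coprime_primes h1 h2).2 h12) (isUnit_natCast h5) (isUnit_natCast h6) C f hC hH0 hg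
    (good R hCore hTors hk C f hC hH0 hg J φ hD hJ l1 h1 h5 h3 ϖ hϖ)
    (good R hCore hTors hk C f hC hH0 hg J φ hD hJ l2 h2 h6 h4 ϖ hϖ)

end complete

/-- **Semistable reduction of a curve from semistable reduction of its Jacobian.** -/
theorem main (hCore : CoreHyp.{u}) (hTors : TorsHyp.{u}) (hTwo : TwoHyp.{u})
    (R : Type u) [CommRing R] [IsDomain R] [IsDiscreteValuationRing R]
    (hk : IsAlgClosed (IsLocalRing.ResidueField R))
    (C : Scheme.{u}) (fC : C ⟶ (Spec (CommRingCat.of (FractionRing R)))) [IsProper fC] [Smooth fC]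
    (hC0 : Models.hRank (FractionRing R) C fC (Coh.structureModule C) 0 = 1) (hC1 : topologicalKrullDim C = 1)
    (hg : 2 ≤ Models.curveGenus (FractionRing R) C fC)
    (J : Over (Spec (CommRingCat.of (FractionRing R)))) [GrpObj J] [IsCommMonObj J] [IsProper J.hom] [Smooth J.hom]
    (φ : ∀ T : Over (Spec (CommRingCat.of (FractionRing R))), PicF.Cl (PicF.XT fC T) → (T ⟶ J))
    (hJ : AbDual.IsRelPicZeroK Scheme.fppfPrecoverage fC J φ)
    (hmul : ∀ (T : Over (Spec (CommRingCat.of (FractionRing R)))) (L M : (PicF.XT fC T).Modules),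
      AbDual.IsPicZeroCl fC T (PicF.cl L) → AbDual.IsPicZeroCl fC T (PicF.cl M) →
      φ T (PicF.cl (CohB1.tensorMod L M)) = φ T (PicF.cl L) * φ T (PicF.cl M))
    (h : SGA7.HasSemistableReduction R (FractionRing R) J) : Models.HasSemistableReduction R C fC := by
  have hCi : IsIntegral C := Groth.Agent.Models.K954.GenFib.isIntegral fC hC0
  have hC : Curve.IsSmoothProperCurve (FractionRing R) C fC := ⟨inferInstance, inferInstance, hCi, hC1⟩
  have hH0 : IsIso fC.appTop := H56.Glue.isIso_appTop _ _ _ hC0
  have hD : AbDual.IsDualAV Scheme.fppfPrecoverage (Over.mk fC) J φ := ⟨hJ, hmul⟩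
  obtain ⟨_, _⟩ := (Groth.Agent.S0549.result R).mp ⟨inferInstance, inferInstance⟩
  have hcpl : IsAdicComplete (IsLocalRing.maximalIdeal (AdicCompletion (IsLocalRing.maximalIdeal R) R))
    (AdicCompletion (IsLocalRing.maximalIdeal R) R) := inferInstance
  have hinj : Function.Injective (algebraMap R (AdicCompletion (IsLocalRing.maximalIdeal R) R)) :=
    AdicCompletion.of_injective (IsLocalRing.maximalIdeal R) R
  let ψ := RingAct.fracMap R (AdicCompletion (IsLocalRing.maximalIdeal R) R) hinj
  have hψ := RingAct.fracMap_comp R (AdicCompletion (IsLocalRing.maximalIdeal R) R) hinj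
  have hsq := IsPullback.of_hasPullback fC (Spec.map (CommRingCat.ofHom ψ))
  obtain ⟨hC', hH0'⟩ := H57.GeoInt.isSmoothProperCurve_pullback fC hC hH0 ψ
  have hg' : 2 ≤ Models.curveGenus (FractionRing (AdicCompletion (IsLocalRing.maximalIdeal R) R))
      (pullback fC (Spec.map (CommRingCat.ofHom ψ))) (pullback.snd fC (Spec.map (CommRingCat.ofHom ψ))) := by
    rw [ActExt.curveGenus_of_isPullback ψ hsq]
    exact hg
  have hk' : IsAlgClosed (IsLocalRing.ResidueField (AdicCompletion (IsLocalRing.maximalIdeal R) R)) :=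
    IsAlgClosed.of_ringEquiv (IsLocalRing.ResidueField R) _ (K150.CplAlgClosed.residueEquiv R).symm
  have hD' := K732.BC.isDualAV_bc (k := Spec.map (CommRingCat.ofHom ψ)) hD
  have hss := K491.FrobIsog.hasSemistableReduction_bc
    (algebraMap R (AdicCompletion (IsLocalRing.maximalIdeal R) R)) ψ (fun r => (RingHom.congr_fun hψ r).symm) h
  have hJp : IsProper (Red.bc (Spec.map (CommRingCat.ofHom ψ)) J).hom :=
    inferInstanceAs (IsProper (pullback.snd J.hom (Spec.map (CommRingCat.ofHom ψ))))
  have hJs : Smooth (Red.bc (Spec.map (CommRingCat.ofHom ψ)) J).hom :=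
    inferInstanceAs (Smooth (pullback.snd J.hom (Spec.map (CommRingCat.ofHom ψ))))
  have hss' := complete (AdicCompletion (IsLocalRing.maximalIdeal R) R) hCore hTors hTwo hk' _ _ hC' hH0' hg'
    (Red.bc (Spec.map (CommRingCat.ofHom ψ)) J) _ hD' hss
  exact SsComp.hasSemistableReduction_of_completion AlgEquiv.refl ψ hψ C fC hC hH0 (one_le_two.trans hg) hsq hss'

end Groth.Agent.Models.K485.Backward
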