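import Groth.Agent.Models.K485.Backward
import Groth.Agent.PicF.K247.JacProper
import Groth.Agent.PicF.K247.SmoothGI
import Groth.Agent.AlgSp.K616.FibField

/-!
# The Jacobian and the two halves of the torsion count

* `geometricallyIntegral`: a group scheme representing `Pic⁰` of a smooth proper curve is geometrically integral;
* `torsHyp`: `Backward.TorsHyp` from its inertia part (`InertHyp`) and from the count of the torsion of the Picard group of a curve
  without a rational point (`CountHyp`).
-/

set_option autoImplicit false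
universe u
open CategoryTheory CategoryTheory.Limits MonoidalCategory CartesianMonoidalCategory MonObj GrpObj AlgebraicGeometry

namespace Groth.Agent.Models.K485.Dict

open Groth.Agent.Grpsch.PicGrp Backward
open _root_.K954

section field

variable {K : Type u} [Field K] {C : Scheme.{u}} {f : C ⟶ Spec (CommRingCat.of K)}

theorem dim_fiber (hC : Curve.IsSmoothProperCurve K C f) (s : Spec (CommRingCat.of K)) :
    topologicalKrullDim ↥(f.fiber s) = 1 := by
  have h1 := K616.FibField.isIso_fiberι f s
  rw [← hC.2.2.2]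
  exact IsHomeomorph.topologicalKrullDim_eq _ (f.fiberι s).homeomorph.isHomeomorph

theorem geometricallyConnected (hC : Curve.IsSmoothProperCurve K C f) (hH0 : IsIso f.appTop)
    (J : Over (Spec (CommRingCat.of K))) (φ : ∀ T : Over (Spec (CommRingCat.of K)), PicF.Cl (PicF.XT f T) → (T ⟶ J))
    (hJ : AbDual.IsRelPicZeroK Scheme.fppfPrecoverage f J φ) : GeometricallyConnected J.hom := by
  have h1 : IsProper f := hC.1
  have h2 : Smooth f := hC.2.1
  have h3 : GeometricallyConnected f := Assem.geometricallyConnected f hC hH0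
  exact K247.JacProper.geometricallyConnected (dim_fiber hC) hJ

theorem geometricallyIntegral (hC : Curve.IsSmoothProperCurve K C f) (hH0 : IsIso f.appTop)
    (J : Over (Spec (CommRingCat.of K))) [Smooth J.hom]
    (φ : ∀ T : Over (Spec (CommRingCat.of K)), PicF.Cl (PicF.XT f T) → (T ⟶ J))
    (hJ : AbDual.IsRelPicZeroK Scheme.fppfPrecoverage f J φ) : GeometricallyIntegral J.hom := by
  have h1 := geometricallyConnected hC hH0 J φ hJ
  exact K247.SmoothGI.geometricallyIntegral J.hom

end field

/-- The inertia part: over `K(ϖ^(1/l))` the Galois group acts trivially on the `l`-torsion of an abelian variety with semistable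
reduction over the complete `R`. -/
def InertHyp : Prop := ∀ (R : Type u) [CommRing R] [IsDomain R] [IsDiscreteValuationRing R]
  [IsAdicComplete (IsLocalRing.maximalIdeal R) R] (_ : IsAlgClosed (IsLocalRing.ResidueField R))
  (J : Over (Spec (CommRingCat.of (FractionRing R)))) [GrpObj J] [IsProper J.hom] [GeometricallyIntegral J.hom]
  (_ : SGA7.HasSemistableReduction R (FractionRing R) J)
  (l : ℕ) (_ : l.Prime) (_ : (l : IsLocalRing.ResidueField R) ≠ 0) (ϖ : R) (_ : Irreducible ϖ)
  (R1 : Type u) [CommRing R1] [IsDomain R1] [IsDiscreteValuationRing R1] [Algebra R R1] [Module.Finite R R1]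
  (hinj : Function.Injective (algebraMap R R1)) (w : R1) (_ : Irreducible w) (_ : w ^ l = algebraMap R R1 ϖ)
  (Ω : Type u) [Field Ω] [Algebra (FractionRing R1) Ω] [IsSepClosure (FractionRing R1) Ω]
  (σ : Ω ≃ₐ[FractionRing R1] Ω)
  (x : SGA7.Pts Ω (Red.bc (Spec.map (CommRingCat.ofHom (RingAct.fracMap R R1 hinj))) J)),
  x ^ l = 1 → SGA7.galAct σ x = x

/-- The count: rational `l`-torsion of the Jacobian comes from the Picard group, `l > 2 g - 2`. -/
def CountHyp : Prop := ∀ (L : Type u) [Field L] (C : Scheme.{u}) (f : C ⟶ Spec (CommRingCat.of L))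
  (_ : Curve.IsSmoothProperCurve L C f) (_ : IsIso f.appTop) (_ : 2 ≤ Models.curveGenus L C f)
  (J : Over (Spec (CommRingCat.of L))) [GrpObj J] [IsCommMonObj J] [IsProper J.hom] [Smooth J.hom]
  (φ : ∀ T : Over (Spec (CommRingCat.of L)), PicF.Cl (PicF.XT f T) → (T ⟶ J))
  (_ : AbDual.IsDualAV Scheme.fppfPrecoverage (Over.mk f) J φ)
  (l : ℕ) (_ : l.Prime) (_ : (l : L) ≠ 0) (_ : 2 * Models.curveGenus L C f - 2 < l)
  (_ : ∀ (Ω : Type u) [Field Ω] [Algebra L Ω] [IsSepClosure L Ω] (σ : Ω ≃ₐ[L] Ω) (x : SGA7.Pts Ω J), x ^ l = 1 →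
    SGA7.galAct σ x = x),
  Nat.card {c : Pic C // c ^ l = 1} = l ^ (2 * Models.curveGenus L C f)

theorem torsHyp (h1 : InertHyp.{u}) (h2 : CountHyp.{u}) : TorsHyp.{u} := by
  intro R _ _ _ _ hk C f hC hH0 hg J _ _ _ _ φ hD hJ l hl hlk hlg ϖ hϖ R1 _ _ _ _ _ hinj w hw hwl
  have hprop : IsProper f := hC.1
  have hgi := geometricallyIntegral hC hH0 J φ hD.relPic
  obtain ⟨hC', hH0'⟩ := H57.GeoInt.isSmoothProperCurve_pullback f hC hH0 (RingAct.fracMap R R1 hinj)
  have hgen : Models.curveGenus (FractionRing R1)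
      (pullback f (Spec.map (CommRingCat.ofHom (RingAct.fracMap R R1 hinj))))
      (pullback.snd f (Spec.map (CommRingCat.ofHom (RingAct.fracMap R R1 hinj)))) =
      Models.curveGenus (FractionRing R) C f :=
    ActExt.curveGenus_of_isPullback (RingAct.fracMap R R1 hinj) (IsPullback.of_hasPullback _ _)
  have hJp : IsProper (Red.bc (Spec.map (CommRingCat.ofHom (RingAct.fracMap R R1 hinj))) J).hom :=
    inferInstanceAs (IsProper (pullback.snd J.hom (Spec.map (CommRingCat.ofHom (RingAct.fracMap R R1 hinj)))))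
  have hJs : Smooth (Red.bc (Spec.map (CommRingCat.ofHom (RingAct.fracMap R R1 hinj))) J).hom :=
    inferInstanceAs (Smooth (pullback.snd J.hom (Spec.map (CommRingCat.ofHom (RingAct.fracMap R R1 hinj)))))
  have hlL : (l : FractionRing R1) ≠ 0 := by
    have h3 := H58.Final.natCast_ne_zero R l hlk
    intro h0
    apply h3
    apply (RingAct.fracMap R R1 hinj).injective
    rw [map_natCast, map_zero, h0]
  have h4 := h2 (FractionRing R1) _ _ hC' hH0' (by rw [hgen]; exact hg)
    (Red.bc (Spec.map (CommRingCat.ofHom (RingAct.fracMap R R1 hinj))) J) _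
    (K732.BC.isDualAV_bc (k := Spec.map (CommRingCat.ofHom (RingAct.fracMap R R1 hinj))) hD) l hl hlL
    (by rw [hgen]; omega)
    (fun Ω _ _ _ σ x hx => h1 R hk J hJ l hl hlk ϖ hϖ R1 hinj w hw hwl Ω σ x hx)
  rw [hgen] at h4
  exact h4

end Groth.Agent.Models.K485.Dict
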