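import Groth.Agent.Models.K485.Dict
import Groth.Agent.Sga7.H481.Transfer
import Groth.Agent.Sga7.H274.ValExt
import Groth.Agent.Sga7.H516.SHBasic
import Groth.Agent.S4048
import Groth.Agent.S0537

/-!
# Semistable reduction of the Jacobian from semistable reduction of the curve: the outer part

`main`: the Galois criterion (S4048) and the passage to the strict henselization, from the input `PLHyp` (level two of the
Galois action on the torsion of the Jacobian over a strictly henselian discrete valuation ring).
-/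

set_option autoImplicit false
universe u
open CategoryTheory CategoryTheory.Limits MonoidalCategory CartesianMonoidalCategory MonObj GrpObj AlgebraicGeometry

namespace Groth.Agent.Models.K485.Forward

open Groth.Agent.Grpsch.PicGrp
open _root_.K954

/-- Level two over a strictly henselian base. -/
def PLHyp : Prop := ∀ (R : Type u) [CommRing R] [IsDomain R] [IsDiscreteValuationRing R]
  (_ : EtCoh.IsStrictlyHenselianLocalRing R)
  (C : Scheme.{u}) (f : C ⟶ Spec (CommRingCat.of (FractionRing R)))
  (_ : Curve.IsSmoothProperCurve (FractionRing R) C f) (_ : IsIso f.appTop)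
  (J : Over (Spec (CommRingCat.of (FractionRing R)))) [GrpObj J] [IsCommMonObj J] [IsProper J.hom] [Smooth J.hom]
  (φ : ∀ T : Over (Spec (CommRingCat.of (FractionRing R))), PicF.Cl (PicF.XT f T) → (T ⟶ J))
  (_ : AbDual.IsDualAV Scheme.fppfPrecoverage (Over.mk f) J φ)
  (_ : Models.HasSemistableReduction R C f)
  (Ω : Type u) [Field Ω] [Algebra (FractionRing R) Ω] [IsSepClosure (FractionRing R) Ω]
  (l : ℕ) (_ : l.Prime) (_ : (l : IsLocalRing.ResidueField R) ≠ 0) (ν : ℕ)
  (σ τ : Ω ≃ₐ[FractionRing R] Ω) (x : SGA7.Pts Ω J), x ^ (l ^ ν) = 1 → SGA7.dev σ (SGA7.dev τ x) = 1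

/-- **Semistable reduction of the Jacobian from semistable reduction of the curve.** -/
theorem main (h0 : PLHyp.{u}) (R : Type u) [CommRing R] [IsDomain R] [IsDiscreteValuationRing R]
    (C : Scheme.{u}) (fC : C ⟶ (Spec (CommRingCat.of (FractionRing R)))) [IsProper fC] [Smooth fC]
    (hC0 : Models.hRank (FractionRing R) C fC (Coh.structureModule C) 0 = 1) (hC1 : topologicalKrullDim C = 1)
    (J : Over (Spec (CommRingCat.of (FractionRing R)))) [GrpObj J] [IsCommMonObj J] [IsProper J.hom] [Smooth J.hom]
    (φ : ∀ T : Over (Spec (CommRingCat.of (FractionRing R))), PicF.Cl (PicF.XT fC T) → (T ⟶ J))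
    (hJ : AbDual.IsRelPicZeroK Scheme.fppfPrecoverage fC J φ)
    (hmul : ∀ (T : Over (Spec (CommRingCat.of (FractionRing R)))) (L M : (PicF.XT fC T).Modules),
      AbDual.IsPicZeroCl fC T (PicF.cl L) → AbDual.IsPicZeroCl fC T (PicF.cl M) →
      φ T (PicF.cl (CohB1.tensorMod L M)) = φ T (PicF.cl L) * φ T (PicF.cl M))
    (h : Models.HasSemistableReduction R C fC) : SGA7.HasSemistableReduction R (FractionRing R) J := by
  have hCi : IsIntegral C := Groth.Agent.Models.K954.GenFib.isIntegral fC hC0
  have hC : Curve.IsSmoothProperCurve (FractionRing R) C fC := ⟨inferInstance, inferInstance, hCi, hC1⟩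
  have hH0 : IsIso fC.appTop := H56.Glue.isIso_appTop _ _ _ hC0
  have hD : AbDual.IsDualAV Scheme.fppfPrecoverage (Over.mk fC) J φ := ⟨hJ, hmul⟩
  have hgi := Dict.geometricallyIntegral hC hH0 J φ hJ
  obtain ⟨l, hl, -, hlk, -⟩ := H58.Final.exists_prime 0 (IsLocalRing.ResidueField R)
  obtain ⟨W, hW⟩ := Groth.Agent.Sga7.H274.ValExt.exists_liesOver (FractionRing R) R
    (SeparableClosure (FractionRing R))
  obtain ⟨R', _, _, _, _, _⟩ := Groth.Agent.S0537.result R
  have hdom : IsDomain R' := Groth.Agent.Sga7.H516.SHBasic.isDomain R R'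
  have hdvr : IsDiscreteValuationRing R' := Groth.Agent.Sga7.H516.SHBasic.isDiscreteValuationRing R R'
  have hhens : HenselianLocalRing R' := Hensel.IsStrictHenselization.henselian (R := R)
  have hsc : IsSepClosure (IsLocalRing.ResidueField R) (IsLocalRing.ResidueField R') :=
    Hensel.IsStrictHenselization.isSepClosure
  have hSH : EtCoh.IsStrictlyHenselianLocalRing R' := ⟨hhens, hsc.sep_closed⟩
  have hinj : Function.Injective (algebraMap R R') := Groth.Agent.Sga7.H516.SHBasic.algebraMap_injective R R'
  let ψ : FractionRing R →+* FractionRing R' := RingAct.fracMap R R' hinj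
  have hψ := RingAct.fracMap_comp R R' hinj
  let _ : Algebra (FractionRing R) (FractionRing R') := ψ.toAlgebra
  have htower : IsScalarTower R (FractionRing R) (FractionRing R') :=
    IsScalarTower.of_algebraMap_eq fun r => by
      rw [IsScalarTower.algebraMap_apply R R' (FractionRing R')]
      exact (RingHom.congr_fun hψ r).symm
  obtain ⟨_, _, hW', hsep, -, -, hA⟩ := Groth.Agent.Sga7.H481.Transfer.exists_algebra hW R' (FractionRing R')
  refine (Groth.Agent.S4048.result R (FractionRing R) (SeparableClosure (FractionRing R)) W hW l hl hlk J).2 ?_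
  refine (hA J l).2.1.1 ?_
  intro ν σ τ _ _ x hx
  have hsq := IsPullback.of_hasPullback fC (Spec.map (CommRingCat.ofHom ψ))
  obtain ⟨hC', hH0'⟩ := H57.GeoInt.isSmoothProperCurve_pullback fC hC hH0 ψ
  have hss : Models.HasSemistableReduction R' (pullback fC (Spec.map (CommRingCat.ofHom ψ)))
      (pullback.snd fC (Spec.map (CommRingCat.ofHom ψ))) :=
    SsComp.hasSemistableReduction_baseChange (algebraMap R R') ψ hψ hsq h
  have hJp : IsProper (Red.bc (Spec.map (CommRingCat.ofHom ψ)) J).hom :=
    inferInstanceAs (IsProper (pullback.snd J.hom (Spec.map (CommRingCat.ofHom ψ))))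
  have hJs : Smooth (Red.bc (Spec.map (CommRingCat.ofHom ψ)) J).hom :=
    inferInstanceAs (Smooth (pullback.snd J.hom (Spec.map (CommRingCat.ofHom ψ))))
  refine h0 R' hSH _ _ hC' hH0' (Red.bc (Spec.map (CommRingCat.ofHom ψ)) J) _
    (K732.BC.isDualAV_bc (k := Spec.map (CommRingCat.ofHom ψ)) hD) hss (SeparableClosure (FractionRing R)) l hl ?_ ν σ τ
    x hx
  intro h1
  apply hlk
  apply (algebraMap (IsLocalRing.ResidueField R) (IsLocalRing.ResidueField R')).injective
  rw [map_natCast, map_zero, h1]

end Groth.Agent.Models.K485.Forward
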