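import Groth.Agent.LefMon.K372.Pcl
import Groth.Agent.Vancyc.H881.Bund
import Groth.Agent.S3999

/-!
# Kummer theory: the Galois action on the torsion of the Picard group of a geometric generic fibre

* `pull_of_galH`: two commuting automorphisms over `K`; the relation `(σ - 1)(τ - 1) = 0` on `H¹(-, ℤ/N)` implies the
  same relation on the `N`-torsion of the Picard group.
* `main`: S3999 in degree one, for the Picard group.
-/

set_option autoImplicit false
universe u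
open CategoryTheory CategoryTheory.Limits AlgebraicGeometry Opposite Abelian

namespace Groth.Agent.Models.K485.Kummer

open Groth.Agent.Grpsch.PicGrp Groth.Agent.Vancyc.H881.Bund K372.Pcl
open Groth.Agent.Etcore.HC Groth.Agent.Etcore.EtInst Groth.Agent.Etcore.HpullCalc
open scoped Groth.Agent.Etcore.EtInst Groth.Agent.Etcore.HC

/-- The formal part. -/
theorem formal {V X : Scheme.{u}} {K : Type u} [Field K] {n : ℕ} [NeZero n] {ζ : K} (hζ : IsPrimitiveRoot ζ n)
    (str : K →+* Γ(V, ⊤)) (hn : (n : K) ≠ 0) (j : V ⟶ X) (g h : V ⟶ V) (wg : g ≫ j = j) (wh : h ≫ j = j)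
    (sg : str = g.appTop.hom.comp str) (sh : str = h.appTop.hom.comp str)
    (ig : PreservesFiniteLimits (EtCoh.pull g)) (ih : PreservesFiniteLimits (EtCoh.pull h))
    (H : (EtCore.HpullVia g j j wg (EtCoh.const X (ZMod n)) 1 - AddMonoidHom.id _).comp
      (EtCore.HpullVia h j j wh (EtCoh.const X (ZMod n)) 1 - AddMonoidHom.id _) = 0)
    (c : Pic V) (hc : c ^ n = 1) : pull g (pull h c * c⁻¹) = pull h c * c⁻¹ := by
  obtain ⟨z, rfl⟩ := exists_pcl_eq hζ str hn c hc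
  have h2 : ∀ w : BH V (ZMod n) 1, bh (ZMod n) g 1 (bh (ZMod n) h 1 w - w) = bh (ZMod n) h 1 w - w := by
    intro w
    obtain ⟨x, hx⟩ := (cb (ZMod n) 1 j).surjective w
    have h1 : bh (ZMod n) h 1 w - w =
        cb (ZMod n) 1 j (EtCore.HpullVia h j j wh (EtCoh.const X (ZMod n)) 1 x - x) := by
      rw [map_sub, cb_via, hx]
    rw [h1, ← cb_via (ZMod n) 1 g j wg ig]
    congr 1
    have h3 := DFunLike.congr_fun H x
    exact sub_eq_zero.1 h3
  have h4 : pull h (pcl hζ str z) * (pcl hζ str z)⁻¹ = pcl hζ str (HC (ZMod n) h 1 z - z) := by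
    rw [pull_pcl hζ str h str sh, pcl_sub, div_eq_mul_inv]
  rw [h4, pull_pcl hζ str g str sg]
  exact congrArg (pcl hζ str) (h2 z)

theorem galGeom_fibStr {R : Type u} [CommRing R] {K : Type u} [Field K] [Algebra R K] {Ω : Type u} [Field Ω]
    [Algebra K Ω] [Algebra R Ω] [IsScalarTower R K Ω] {X : Scheme.{u}} (f : X ⟶ Spec (CommRingCat.of R))
    (σ : Ω ≃ₐ[K] Ω) : VanCyc.galGeom f σ ≫ VanCyc.fibStr R f Ω =
      VanCyc.fibStr R f Ω ≫ Spec.map (CommRingCat.ofHom (σ : Ω →+* Ω)) := by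
  rw [VanCyc.galGeom, pullback.lift_snd]

/-- The structure map. -/
noncomputable def strF {R : Type u} [CommRing R] {K : Type u} [Field K] {Ω : Type u} [Field Ω]
    [Algebra K Ω] [Algebra R Ω] {X : Scheme.{u}} (f : X ⟶ Spec (CommRingCat.of R)) :
    K →+* Γ(VanCyc.fib R f Ω, ⊤) :=
  ((VanCyc.fibStr R f Ω).appTop.hom.comp (Scheme.ΓSpecIso (CommRingCat.of Ω)).inv.hom).comp (algebraMap K Ω)

theorem strF_eq {R : Type u} [CommRing R] {K : Type u} [Field K] [Algebra R K] {Ω : Type u} [Field Ω]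
    [Algebra K Ω] [Algebra R Ω] [IsScalarTower R K Ω] {X : Scheme.{u}} (f : X ⟶ Spec (CommRingCat.of R))
    (σ : Ω ≃ₐ[K] Ω) : (strF f : K →+* Γ(VanCyc.fib R f Ω, ⊤)) = (VanCyc.galGeom f σ).appTop.hom.comp (strF f) := by
  have h1 := galGeom_fibStr f σ
  have h2 : (VanCyc.fibStr R f Ω).appTop ≫ (VanCyc.galGeom f σ).appTop =
      (Spec.map (CommRingCat.ofHom (σ : Ω →+* Ω))).appTop ≫ (VanCyc.fibStr R f Ω).appTop := by
    rw [← Scheme.Hom.comp_appTop, ← Scheme.Hom.comp_appTop, h1]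
  have h3 : (Scheme.ΓSpecIso (CommRingCat.of Ω)).inv ≫ (Spec.map (CommRingCat.ofHom (σ : Ω →+* Ω))).appTop =
      CommRingCat.ofHom (σ : Ω →+* Ω) ≫ (Scheme.ΓSpecIso (CommRingCat.of Ω)).inv := by
    exact (Scheme.ΓSpecIso_inv_naturality _).symm
  have h4 : (Scheme.ΓSpecIso (CommRingCat.of Ω)).inv ≫ (VanCyc.fibStr R f Ω).appTop ≫ (VanCyc.galGeom f σ).appTop =
      CommRingCat.ofHom (σ : Ω →+* Ω) ≫ (Scheme.ΓSpecIso (CommRingCat.of Ω)).inv ≫
        (VanCyc.fibStr R f Ω).appTop := by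
    rw [h2, reassoc_of% h3]
  apply RingHom.ext
  intro x
  have h5 := congrArg (fun t => t.hom (algebraMap K Ω x)) h4
  have h6 : (σ : Ω →+* Ω) (algebraMap K Ω x) = algebraMap K Ω x := σ.commutes x
  simp only [CommRingCat.hom_comp, RingHom.comp_apply, CommRingCat.hom_ofHom] at h5
  rw [h6] at h5
  exact h5.symm

/-- The Picard--Lefschetz relation in degree one, for the Picard group. -/
theorem main {R : Type u} [CommRing R] [IsLocalRing R] {K : Type u} [Field K] [Algebra R K] {Ω : Type u} [Field Ω]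
    [Algebra K Ω] [Algebra R Ω] [IsScalarTower R K Ω] {X : Scheme.{u}} (f : X ⟶ Spec (CommRingCat.of R))
    (n : ℕ) [NeZero n] (hn : (n : K) ≠ 0) {ζ : K} (hζ : IsPrimitiveRoot ζ n) (σ τ : Ω ≃ₐ[K] Ω)
    (iσ : PreservesFiniteLimits (EtCoh.pull (VanCyc.galGeom f σ)))
    (iτ : PreservesFiniteLimits (EtCoh.pull (VanCyc.galGeom f τ)))
    (H : (VanCyc.galH f σ (EtCoh.const X (ZMod n)) 1 - AddMonoidHom.id _).comp
      (VanCyc.galH f τ (EtCoh.const X (ZMod n)) 1 - AddMonoidHom.id _) = 0)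
    (c : Pic (VanCyc.fib R f Ω)) (hc : c ^ n = 1) :
    pull (VanCyc.galGeom f σ) (pull (VanCyc.galGeom f τ) c * c⁻¹) = pull (VanCyc.galGeom f τ) c * c⁻¹ :=
  formal hζ (strF f) hn (VanCyc.jA R f Ω) (VanCyc.galGeom f σ) (VanCyc.galGeom f τ) (VanCyc.galGeom_jA f σ)
    (VanCyc.galGeom_jA f τ) (strF_eq f σ) (strF_eq f τ) iσ iτ H c hc

end Groth.Agent.Models.K485.Kummer
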