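import Groth.Agent.Models.K381.PicLef
import Groth.Agent.Models.K567.PtsDict
import Groth.Agent.Models.K485.Kummer
import Groth.Agent.Models.K485.Forward
import Groth.Agent.Sga7.H242.KummerGrp

/-!
# Level two of the Galois action on the torsion of the Jacobian

`plHyp : Forward.PLHyp`: from the Picard--Lefschetz relation on `H¹` of the geometric generic fibre of a nodal model.
-/

set_option autoImplicit false
universe u
open CategoryTheory CategoryTheory.Limits MonoidalCategory CartesianMonoidalCategory MonObj GrpObj AlgebraicGeometry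

namespace Groth.Agent.Models.K485.PL

open Groth.Agent.Grpsch.PicGrp Groth.Agent.Picfga.FieldSections Groth.Agent.Picfga.GaloisAct
open scoped Groth.Agent.Etcore.HC

variable {R K : Type u} [CommRing R] [Field K] [Algebra R K] {Ω : Type u} [Field Ω] [Algebra K Ω] [Algebra R Ω]
  [IsScalarTower R K Ω] {C X : Scheme.{u}} {f : C ⟶ Spec (CommRingCat.of K)} {p : X ⟶ Spec (CommRingCat.of R)} {g : C ⟶ X}

theorem isPullback_geo (sq : IsPullback g f p (Spec.map (CommRingCat.ofHom (algebraMap R K)))) :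
    IsPullback (pullback.fst f (bc K Ω) ≫ g) (pullback.snd f (bc K Ω)) p (VanCyc.toS R Ω) := by
  have h1 := (IsPullback.of_hasPullback f (bc K Ω)).paste_horiz sq
  have h2 : bc K Ω ≫ Spec.map (CommRingCat.ofHom (algebraMap R K)) = VanCyc.toS R Ω := by
    rw [VanCyc.toS, ← Spec.map_comp, ← CommRingCat.ofHom_comp, ← IsScalarTower.algebraMap_eq]
  rw [← h2]
  exact h1

/-- Compatibility of the two twists. -/
theorem tw_comp (sq : IsPullback g f p (Spec.map (CommRingCat.ofHom (algebraMap R K)))) (σ : Ω ≃ₐ[K] Ω) :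
    tw f σ ≫ (isPullback_geo (Ω := Ω) sq).isoPullback.hom =
      (isPullback_geo (Ω := Ω) sq).isoPullback.hom ≫ VanCyc.galGeom p σ := by
  apply pullback.hom_ext
  · have h1 : (isPullback_geo (Ω := Ω) sq).isoPullback.hom ≫ pullback.fst p (VanCyc.toS R Ω) =
        pullback.fst f (bc K Ω) ≫ g := (isPullback_geo (Ω := Ω) sq).isoPullback_hom_fst
    have h2 := VanCyc.galGeom_jA p σ
    have h3 := tw_fst f σ
    rw [Category.assoc, Category.assoc, h2, h1, ← Category.assoc, h3]
  · have h1 : (isPullback_geo (Ω := Ω) sq).isoPullback.hom ≫ pullback.snd p (VanCyc.toS R Ω) =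
        pullback.snd f (bc K Ω) := (isPullback_geo (Ω := Ω) sq).isoPullback_hom_snd
    have h2 := Kummer.galGeom_fibStr p σ
    have h3 := tw_snd f σ
    rw [Category.assoc, Category.assoc, h2, h1, h3, ← Category.assoc, h1]

theorem transport (sq : IsPullback g f p (Spec.map (CommRingCat.ofHom (algebraMap R K)))) (n : ℕ) (σ τ : Ω ≃ₐ[K] Ω)
    (h : ∀ c : Pic (VanCyc.fib R p Ω), c ^ n = 1 →
      pull (VanCyc.galGeom p σ) (pull (VanCyc.galGeom p τ) c * c⁻¹) = pull (VanCyc.galGeom p τ) c * c⁻¹)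
    (c : Pic (pullback f (bc K Ω))) (hc : c ^ n = 1) :
    pull (tw f σ) (pull (tw f τ) c * c⁻¹) = pull (tw f τ) c * c⁻¹ := by
  let e := (isPullback_geo (Ω := Ω) sq).isoPullback
  have h1 : ∀ (σ : Ω ≃ₐ[K] Ω) (d : Pic (VanCyc.fib R p Ω)),
      pull e.hom (pull (VanCyc.galGeom p σ) d) = pull (tw f σ) (pull e.hom d) := by
    intro σ d
    have h2 : tw f σ ≫ e.hom = e.hom ≫ VanCyc.galGeom p σ := tw_comp sq σ
    rw [← pull_comp, ← pull_comp, h2]
  have h3 : pull e.hom (pull e.inv c) = c := by
    rw [← pull_comp, e.hom_inv_id, pull_id]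
  have h4 := h (pull e.inv c) (by rw [← map_pow, hc, map_one])
  have h5 := congrArg (pull e.hom) h4
  rw [h1, map_mul, map_inv, h1, h3] at h5
  exact h5

/-- **Level two of the Galois action on the torsion of the Jacobian over a strictly henselian base.** -/
theorem plHyp : Forward.PLHyp.{u} := by
  intro R _ _ _ hR C f hC hH0 J _ _ _ _ φ hD hss Ω _ _ _ l hl hlR ν σ τ x hx
  have hhens : HenselianLocalRing R := hR.1
  have hsep : IsSepClosed (IsLocalRing.ResidueField R) := hR.2
  have hsepΩ : IsSepClosed Ω := IsSepClosure.sep_closed (FractionRing R)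
  let _ : Algebra R Ω := ((algebraMap (FractionRing R) Ω).comp (algebraMap R (FractionRing R))).toAlgebra
  have htower : IsScalarTower R (FractionRing R) Ω := IsScalarTower.of_algebraMap_eq fun r => rfl
  obtain ⟨X, p, g, sq, hp, hflat, H⟩ := K381.PicLef.main R hR hC hss
  have hlu : IsUnit ((l ^ ν : ℕ) : R) := by
    rw [Nat.cast_pow]
    refine IsUnit.pow ν ?_
    by_contra h
    have h1 : (l : R) ∈ IsLocalRing.maximalIdeal R := h
    rw [← IsLocalRing.residue_eq_zero_iff, map_natCast] at h1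
    exact hlR h1
  have hn : ((l ^ ν : ℕ) : FractionRing R) ≠ 0 := by
    have h1 := hlu.map (algebraMap R (FractionRing R))
    rw [map_natCast] at h1
    exact h1.ne_zero
  obtain ⟨ζ, hζ⟩ := Groth.Agent.Sga7.H242.KummerGrp.exists_primitiveRoot (C := R) (l ^ ν) hlu
  have hζ' : IsPrimitiveRoot (algebraMap R (FractionRing R) ζ) (l ^ ν) :=
    hζ.map_of_injective (IsFractionRing.injective R (FractionRing R))
  have : NeZero (l ^ ν) := ⟨pow_ne_zero ν hl.ne_zero⟩
  refine K567.PtsDict.dev_dev f hC hH0 hD (l ^ ν) σ τ ?_ x hx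
  refine transport sq (l ^ ν) σ τ ?_
  intro c hc
  exact Kummer.main p (l ^ ν) hn hζ' σ τ inferInstance inferInstance (H Ω (l ^ ν) hlu σ τ) c hc

end Groth.Agent.Models.K485.PL
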